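import Groth.Agent.AlgSpLib.SmoothDescent

/-!
# Gluing local lifts over an affine square-zero thickening (no smoothness)
-/

set_option autoImplicit false
universe u
open CategoryTheory CategoryTheory.Limits AlgebraicGeometry Opposite AlgSp Topology TensorProduct

namespace AlgSpLib

variable {S : Scheme.{u}} {A : Type u} [CommRing A] {str : Spec (CommRingCat.of A) ⟶ S}
variable {n : ℕ}
variable {P : Sp S} {C : Type u} [CommRing C] [Algebra A C] {a : (yon S).obj (ptA str C) ⟶ P}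
  {q : P ⟶ (yon S).obj (Over.mk str)}

theorem exists_section_of_lifts (I : Ideal A) (hI : I ^ 2 = ⊥) [Algebra.FinitePresentation A C] (H : ChartHyp a q)
    (sT : (yon S).obj (ptA str (A ⧸ I)) ⟶ P) (B : Type u) [CommRing B] [Algebra A B] [Algebra.Etale A B]
    [Module.FaithfullyFlat A B] (u₀ : C →ₐ[A] B ⧸ idealIn I B)
    (hu : ptOf a u₀ = (yon S).map (hA str (baseQuot I B)) ≫ sT)
    (l : C →ₐ[A] B) (hl : (Ideal.Quotient.mkₐ A (idealIn I B)).comp l = u₀) :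
    ∃ L : (yon S).obj (Over.mk str) ⟶ P,
      L ≫ q = 𝟙 _ ∧ (yon S).map (stA str (A ⧸ I)) ≫ L = sT := by
  obtain ⟨n, π, hπ, hfg⟩ := (Algebra.FinitePresentation.out (R := A) (A := C))
  obtain ⟨s, hs⟩ := hfg
  -- all pullbacks of `l` agree modulo the ideal
  have base : ∀ (E : Type u) [CommRing E] [Algebra A E] (k : B →ₐ[A] E),
      (yon S).map (hA str (Ideal.Quotient.mkₐ A (idealIn I E))) ≫ ptOf a (k.comp l) =
        (yon S).map (hA str (baseQuot I E)) ≫ sT := by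
    intro E _ _ k
    rw [← ptOf_comp, ← AlgHom.comp_assoc, ← quotHom_comp_mk, AlgHom.comp_assoc, hl, ptOf_comp, hu,
      ← Category.assoc, ← Functor.map_comp, ← hA_comp, quotHom_comp_baseQuot]
  let p₁ : B →ₐ[A] B ⊗[A] B := Algebra.TensorProduct.includeLeft
  let p₂ : B →ₐ[A] B ⊗[A] B := Algebra.TensorProduct.includeRight
  let J := idealIn I B
  let J₂ := idealIn I (B ⊗[A] B)
  have hJ₂ : J₂ ^ 2 = ⊥ := idealIn_sq hI _
  let g₁ := p₁.comp l
  obtain ⟨g₂, ⟨cg₂, eg₂⟩, -⟩ := existsUnique_ptLift H hJ₂ g₁ (ptOf a (p₂.comp l)) (ptOf_st H _)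
    ((base _ p₂).trans (base _ p₁).symm)
  let M := coordSub π s J l
  let ι : M ⊗[A] B →ₗ[A] (Fin n → B ⊗[A] B) := coordSubBC π s B J l
  have ιinj : Function.Injective ι := coordSubBC_injective π s B J l
  have ιtmul : ∀ (δ : M) (b : B) (i : Fin n), ι (δ ⊗ₜ b) i = (δ : Fin n → B) i ⊗ₜ[A] b := fun _ _ _ => rfl
  let z := coords π g₂ - coords π g₁
  have hz : z ∈ coordSub π s J₂ g₁ := sub_coords_mem hs hJ₂ cg₂
  obtain ⟨t, ht⟩ := coordSubBC_surjective π s B I l hz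
  -- the transported difference
  have hd : ∀ δ : M, ∃ x : M ⊗[A] B, Moves π a J₂ (p₂.comp l) g₂ (p₂ ∘ δ.1) (p₁ ∘ δ.1 - ι x) := by
    intro δ
    obtain ⟨w, hw, hm⟩ := Moves.exists H hπ hs hJ₂ eg₂.symm (map_mem_coordSub p₂ (idealIn_le_comap I p₂) δ.2)
    obtain ⟨x, hx⟩ := coordSubBC_surjective π s B I l
      (sub_mem (map_mem_coordSub p₁ (idealIn_le_comap I p₁) δ.2) (mem_coordSub_congr hJ₂ cg₂.symm hw))
    exact ⟨x, by rwa [show ι x = _ from hx, sub_sub_cancel]⟩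
  choose d₀ hd₀ using hd
  have lin : ∀ (δ δ' : M) (r r' : A), d₀ (r • δ + r' • δ') = r • d₀ δ + r' • d₀ δ' := by
    intro δ δ' r r'
    refine ιinj ?_
    have h1 := Moves.linear H hπ hJ₂ eg₂.symm (hd₀ δ) (hd₀ δ') (algebraMap A _ r) (algebraMap A _ r')
    have h2 := hd₀ (r • δ + r' • δ')
    simp only [algebraMap_smul] at h1
    have ev : p₂ ∘ ((r • δ + r' • δ' : M) : Fin n → B) = r • (p₂ ∘ δ.1) + r' • (p₂ ∘ δ'.1) :=
      funext fun i => by simp
    rw [ev] at h2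
    have := Moves.unique H hπ hJ₂ h2 h1
    have ew : p₁ ∘ ((r • δ + r' • δ' : M) : Fin n → B) = r • (p₁ ∘ δ.1) + r' • (p₁ ∘ δ'.1) :=
      funext fun i => by simp
    rw [ew, smul_sub, smul_sub, sub_add_sub_comm, sub_right_inj] at this
    rw [this, map_add, map_smul, map_smul]
  let d : M →ₗ[A] M ⊗[A] B :=
  { toFun := d₀
    map_add' := fun δ δ' => by simpa using lin δ δ' 1 1
    map_smul' := fun r δ => by simpa using lin δ δ r 0 }
  -- the triple tensor product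
  let q₁₂ : B ⊗[A] B →ₐ[A] (B ⊗[A] B) ⊗[A] B := Algebra.TensorProduct.includeLeft
  let q₁₃ : B ⊗[A] B →ₐ[A] (B ⊗[A] B) ⊗[A] B :=
    Algebra.TensorProduct.map Algebra.TensorProduct.includeLeft (AlgHom.id A B)
  let q₂₃ : B ⊗[A] B →ₐ[A] (B ⊗[A] B) ⊗[A] B :=
    Algebra.TensorProduct.map Algebra.TensorProduct.includeRight (AlgHom.id A B)
  let J₃ := idealIn I ((B ⊗[A] B) ⊗[A] B)
  have hJ₃ : J₃ ^ 2 = ⊥ := idealIn_sq hI _
  let h₃ := q₁₂.comp (p₂.comp l)
  let g₁₂ := q₁₂.comp g₂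
  have hpt₃ : ptOf a h₃ = ptOf a g₁₂ := by rw [ptOf_comp, ptOf_comp (k := q₁₂), eg₂]
  let ι₂ : (M ⊗[A] B) ⊗[A] B →ₗ[A] (Fin n → (B ⊗[A] B) ⊗[A] B) := (coordBC B).comp (ι.rTensor B)
  have ι₂inj : Function.Injective ι₂ :=
    (coordBC_bijective B).1.comp (Module.Flat.rTensor_preserves_injective_linearMap _ ιinj)
  have ι₂tmul : ∀ (x : M ⊗[A] B) (b : B) (i : Fin n), ι₂ (x ⊗ₜ b) i = ι x i ⊗ₜ[A] b := fun _ _ _ => rfl
  have claim : ∀ y : M ⊗[A] B,
      Moves π a J₃ h₃ g₁₂ (q₂₃ ∘ ι y) (q₁₃ ∘ ι y - ι₂ (d.rTensor B y)) := by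
    intro y
    induction y using TensorProduct.induction_on with
    | zero =>
      have e0 : ∀ k : B ⊗[A] B →ₐ[A] (B ⊗[A] B) ⊗[A] B, k ∘ ι 0 = 0 := fun k => funext fun i => by simp
      rw [e0, e0, map_zero, map_zero, sub_zero]
      exact ⟨fun _ => J₃.zero_mem, fun _ => J₃.zero_mem, h₃, g₁₂, (add_zero _).symm, (add_zero _).symm, hpt₃⟩
    | add y y' hy hy' =>
      have h1 := Moves.linear H hπ hJ₃ hpt₃ hy hy' 1 1
      have e0 : ∀ k : B ⊗[A] B →ₐ[A] (B ⊗[A] B) ⊗[A] B, k ∘ ι (y + y') = k ∘ ι y + k ∘ ι y' :=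
        fun k => funext fun i => by simp
      rw [one_smul, one_smul, one_smul, one_smul, ← e0, sub_add_sub_comm, ← e0, ← map_add, ← map_add] at h1
      exact h1
    | tmul δ b =>
      have m := Moves.map q₁₂ (idealIn_le_comap I q₁₂) (hd₀ δ)
      have h1 := Moves.linear H hπ hJ₃ hpt₃ m m (1 ⊗ₜ b) 0
      have z0 : ∀ f : Fin n → (B ⊗[A] B) ⊗[A] B, (0 : (B ⊗[A] B) ⊗[A] B) • f = 0 := fun f =>
        funext fun i => zero_mul _
      erw [z0, z0, add_zero, add_zero] at h1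
      convert h1 using 1
      · exact funext fun i => by simp [q₂₃, q₁₂, p₂, ιtmul]
      · exact funext fun i => by simp [q₁₃, q₁₂, p₁, ιtmul, ι₂tmul, d, mul_sub]
  have r1 : q₁₂.comp p₁ = q₁₃.comp p₁ := AlgHom.ext fun b => by simp [q₁₂, q₁₃, p₁]
  have r2 : q₁₂.comp p₂ = q₂₃.comp p₁ := AlgHom.ext fun b => by simp [q₁₂, q₂₃, p₁, p₂]
  have r3 : q₁₃.comp p₂ = q₂₃.comp p₂ := AlgHom.ext fun b => by simp [q₁₃, q₂₃, p₂]
  have cm : ∀ (k : B ⊗[A] B →ₐ[A] (B ⊗[A] B) ⊗[A] B) (i : Fin n), (k ∘ z) i ∈ J₃ := fun k i =>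
    idealIn_le_comap I k (hz.1 i)
  have target : Moves π a J₃ h₃ g₁₂ (q₂₃ ∘ z) (q₁₃ ∘ z - q₁₂ ∘ z) := by
    refine ⟨cm q₂₃, fun i => J₃.sub_mem (cm q₁₃ i) (cm q₁₂ i), q₂₃.comp g₂, q₁₃.comp g₂, ?_, ?_, ?_⟩
    · have : h₃ = q₂₃.comp g₁ := by
        change q₁₂.comp (p₂.comp l) = q₂₃.comp (p₁.comp l)
        rw [← AlgHom.comp_assoc, r2, AlgHom.comp_assoc]
      rw [this, coords_comp, coords_comp]
      exact funext fun i => by simp [z]
    · have e : q₁₂ ∘ coords π g₁ = q₁₃ ∘ coords π g₁ := funext fun i => congr($r1 (coords π l i))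
      rw [coords_comp, coords_comp]
      funext i
      have := congrFun e i
      simp only [Function.comp_apply] at this
      simp [z, this]
    · rw [ptOf_comp, ptOf_comp (k := q₁₃), eg₂, ← ptOf_comp, ← ptOf_comp, ← AlgHom.comp_assoc,
        ← AlgHom.comp_assoc, r3]
  have key : d.rTensor B t = t ⊗ₜ 1 := by
    refine ι₂inj ?_
    have h1 := claim t
    rw [show ι t = z from ht] at h1
    rw [sub_right_inj.1 (Moves.unique H hπ hJ₃ h1 target)]
    exact funext fun i => by rw [ι₂tmul, show ι t = z from ht]; rfl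
  obtain ⟨δ, hδ⟩ : ∃ δ, d δ = t := exists_preimage_of_rTensor_eq (M := M) B d t key
  obtain ⟨l', el, cl⟩ := exists_translate hπ hs (idealIn_sq hI B) δ.2
  obtain ⟨-, -, h', g', eh, eg, e⟩ := hd₀ δ
  have e' : ptOf a (p₁.comp l') = ptOf a (p₂.comp l') := by
    have i2 : h' = p₂.comp l' := eq_of_coords_eq hπ (by
      rw [eh, coords_comp, coords_comp, el]; exact funext fun i => by simp)
    have i1 : g' = p₁.comp l' := eq_of_coords_eq hπ (by
      rw [eg, show d₀ δ = t from hδ, show ι t = z from ht, coords_comp, el]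
      exact funext fun i => by simp [z, g₁, coords_comp]; ring)
    rw [← i1, ← i2, e]
  obtain ⟨L, hL, hLB⟩ := exists_glued_point B H l' e'
  refine ⟨L, hL, ?_⟩
  have het : Etale (hA str (baseQuot I B)).left :=
    (HasRingHomProperty.Spec_iff (P := @Etale)).2
      (etale_quotientMap (algebraMap A B) (RingHom.etale_algebraMap.2 inferInstance) I)
  refine hom_ext_of_cover (fun _ : PUnit.{u + 1} => hA str (baseQuot I B)) (fun _ => inferInstance)
    (fun _ => inferInstance) (fun t₀ => ⟨⟨⟩, ?_⟩) fun _ => ?_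
  · obtain ⟨Q, hQ⟩ := PrimeSpectrum.comap_surjective_of_faithfullyFlat (A := A) (B := B)
      (PrimeSpectrum.comap (Ideal.Quotient.mk I) t₀)
    have hle : idealIn I B ≤ Q.asIdeal := by
      rw [Ideal.map_le_iff_le_comap]
      change I ≤ (PrimeSpectrum.comap (algebraMap A B) Q).asIdeal
      rw [hQ]
      intro x hx
      change Ideal.Quotient.mk I x ∈ t₀.asIdeal
      rw [Ideal.Quotient.eq_zero_iff_mem.2 hx]
      exact t₀.asIdeal.zero_mem
    obtain ⟨Q', rfl⟩ : Q ∈ Set.range (PrimeSpectrum.comap (Ideal.Quotient.mk (idealIn I B))) := by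
      rw [range_comap_of_surjective _ _ Ideal.Quotient.mk_surjective, Ideal.mk_ker]
      exact hle
    refine ⟨Q', PrimeSpectrum.comap_injective_of_surjective _ Ideal.Quotient.mk_surjective ?_⟩
    refine Eq.trans ?_ hQ
    exact PrimeSpectrum.ext rfl
  · have e1 : hA str (baseQuot I B) ≫ stA str (A ⧸ I) =
        hA str (Ideal.Quotient.mkₐ A (idealIn I B)) ≫ stA str B := by rw [hA_st, hA_st]
    rw [← Functor.map_comp_assoc, e1, Functor.map_comp, Category.assoc, hLB, ← ptOf_comp, cl, hl, hu]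

end AlgSpLib
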