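import Groth.Agent.LiftGlueLib.Descent
import Groth.Agent.AlgSpLib.SmoothSection

/-!
# Local lifts along an affine square-zero thickening glue to a global lift
-/

set_option autoImplicit false
universe u
open CategoryTheory CategoryTheory.Limits AlgebraicGeometry Opposite AlgSp Topology TensorProduct
open AlgSpLib

namespace LiftGlueLib

/-- For a locally finitely presented scheme over an affine base, sections over a square-zero closed subscheme
lift as soon as they lift locally on the base. -/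
theorem exists_section_of_locally {A : Type u} [CommRing A] (I : Ideal A) (hI : I ^ 2 = ⊥) {W : Scheme.{u}}
    (w : W ⟶ Spec (CommRingCat.of A)) [LocallyOfFinitePresentation w]
    (s₀ : Spec (CommRingCat.of (A ⧸ I)) ⟶ W)
    (hs₀ : s₀ ≫ w = Spec.map (CommRingCat.ofHom (Ideal.Quotient.mk I)))
    (hloc : ∀ x : (Spec (CommRingCat.of A)), ∃ (O : (Spec (CommRingCat.of A)).Opens)
      (l : (O : Scheme.{u}) ⟶ W), x ∈ O ∧ l ≫ w = O.ι ∧
        (Spec.map (CommRingCat.ofHom (Ideal.Quotient.mk I)) ∣_ O) ≫ l =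
          (Spec.map (CommRingCat.ofHom (Ideal.Quotient.mk I)) ⁻¹ᵁ O).ι ≫ s₀) :
    ∃ L : Spec (CommRingCat.of A) ⟶ W, L ≫ w = 𝟙 _ ∧
      Spec.map (CommRingCat.ofHom (Ideal.Quotient.mk I)) ≫ L = s₀ := by
  classical
  let mkI := Spec.map (CommRingCat.ofHom (Ideal.Quotient.mk I))
  let S := Spec (CommRingCat.of A)
  let sl (g : A) : Spec (CommRingCat.of (Localization.Away g)) ⟶ S :=
    Spec.map (CommRingCat.ofHom (algebraMap A (Localization.Away g)))
  -- local lifts with values in affine opens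
  have key : ∀ x : S, ∃ (g : A) (V : W.Opens) (l : Spec (CommRingCat.of (Localization.Away g)) ⟶ (V : Scheme.{u})),
      x ∈ PrimeSpectrum.basicOpen g ∧ IsAffineOpen V ∧ l ≫ V.ι ≫ w = sl g ∧
      Spec.map (CommRingCat.ofHom (Ideal.Quotient.mk (idealIn I (Localization.Away g)))) ≫ l ≫ V.ι =
        Spec.map (CommRingCat.ofHom (baseQuot I (Localization.Away g)).toRingHom) ≫ s₀ := by
    intro x
    obtain ⟨O, l, hxO, hlw, hls⟩ := hloc x
    obtain ⟨V, hV, hxV, -⟩ := exists_isAffineOpen_mem_and_subset (X := W) (x := l ⟨x, hxO⟩) (U := ⊤) trivial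
    obtain ⟨_, ⟨g, rfl⟩, hxg, hgO⟩ := PrimeSpectrum.isTopologicalBasis_basic_opens.exists_subset_of_mem_open
      (show x ∈ O.ι ''ᵁ (l ⁻¹ᵁ V) from ⟨⟨x, hxO⟩, hxV, rfl⟩) (O.ι ''ᵁ (l ⁻¹ᵁ V)).2
    have hr : Set.range (sl g) ⊆ Set.range ((l ⁻¹ᵁ V).ι ≫ O.ι) := by
      rintro _ ⟨y, rfl⟩
      have : sl g y ∈ SetLike.coe (PrimeSpectrum.basicOpen g) := by
        rw [← PrimeSpectrum.localization_away_comap_range (Localization.Away g) g]
        exact ⟨y, rfl⟩
      obtain ⟨z, hz, hzy⟩ := hgO this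
      exact ⟨⟨z, hz⟩, hzy⟩
    let l' : Spec (CommRingCat.of (Localization.Away g)) ⟶ ((l ⁻¹ᵁ V) : Scheme.{u}) :=
      IsOpenImmersion.lift ((l ⁻¹ᵁ V).ι ≫ O.ι) (sl g) hr
    have hl' : l' ≫ (l ⁻¹ᵁ V).ι ≫ O.ι = sl g := IsOpenImmersion.lift_fac _ _ _
    refine ⟨g, V, l' ≫ (l ∣_ V), hxg, hV, ?_, ?_⟩
    · rw [Category.assoc, morphismRestrict_ι_assoc, hlw, hl']
    · let mkg := Spec.map (CommRingCat.ofHom (Ideal.Quotient.mk (idealIn I (Localization.Away g))))
      let bq := Spec.map (CommRingCat.ofHom (baseQuot I (Localization.Away g)).toRingHom)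
      have hsq : bq ≫ mkI = mkg ≫ sl g := by
        simp only [bq, mkI, mkg, sl, ← Spec.map_comp, ← CommRingCat.ofHom_comp]
        congr 2
      have hr2 : Set.range bq ⊆ Set.range (mkI ⁻¹ᵁ O).ι := by
        rw [Scheme.Opens.range_ι]
        rintro _ ⟨y, rfl⟩
        change mkI (bq y) ∈ O
        rw [← Scheme.Hom.comp_apply, hsq, ← hl']
        simp only [Scheme.Hom.comp_apply]
        exact Subtype.prop _
      let m := IsOpenImmersion.lift (mkI ⁻¹ᵁ O).ι bq hr2
      have hm : m ≫ (mkI ⁻¹ᵁ O).ι = bq := IsOpenImmersion.lift_fac _ _ _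
      have he : mkg ≫ l' ≫ (l ⁻¹ᵁ V).ι = m ≫ (mkI ∣_ O) := by
        rw [← cancel_mono O.ι]
        simp only [Category.assoc, hl', morphismRestrict_ι, reassoc_of% hm]
        exact hsq.symm
      change mkg ≫ (l' ≫ (l ∣_ V)) ≫ V.ι = bq ≫ s₀
      rw [Category.assoc, morphismRestrict_ι, reassoc_of% he, hls, reassoc_of% hm]
  choose g V l hxg hV hlw hls using key
  obtain ⟨t, ht⟩ := CompactSpace.isCompact_univ.elim_finite_subcover
    (fun x : S => SetLike.coe (PrimeSpectrum.basicOpen (g x))) (fun x => (PrimeSpectrum.basicOpen (g x)).2)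
    (fun x _ => Set.mem_iUnion.2 ⟨x, hxg x⟩)
  let Br : t → Type u := fun r => Localization.Away (g r.1)
  let gs : t → Scheme.{u} := fun r => (V r.1 : Scheme)
  have hga : ∀ r, IsAffine (gs r) := fun r => hV r.1
  let m : ∐ gs ⟶ W := Sigma.desc fun r => (V r.1).ι
  have hm : Etale m := by
    set_option backward.isDefEq.respectTransparency false in
    exact IsZariskiLocalAtSource.sigmaDesc (P := @Etale) fun r => inferInstance
  let str : Spec (CommRingCat.of A) ⟶ Spec (CommRingCat.of A) := 𝟙 _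
  let U' := ∐ gs
  have : IsAffine U' := inferInstanceAs (IsAffine (∐ gs))
  let C := Γ(U', ⊤)
  let γ : Spec C ⟶ Spec (CommRingCat.of A) := U'.isoSpec.inv ≫ m ≫ w
  letI : Algebra A C := (Spec.preimage γ).hom.toAlgebra
  have hγ : Spec.map (CommRingCat.ofHom (algebraMap A C)) = γ := Spec.map_preimage γ
  have : Algebra.FinitePresentation A C := by
    refine RingHom.finitePresentation_algebraMap.1
      ((HasRingHomProperty.Spec_iff (P := @LocallyOfFinitePresentation)).1 ?_)
    exact (show LocallyOfFinitePresentation (Spec.map (Spec.preimage γ)) from by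
      rw [Spec.map_preimage]; infer_instance)
  let WS : Over (Spec (CommRingCat.of A)) := Over.mk w
  let P : Sp (Spec (CommRingCat.of A)) := (yon _).obj WS
  let q : P ⟶ (yon _).obj (Over.mk str) := (yon _).map (Over.homMk w (Category.comp_id _) : WS ⟶ Over.mk str)
  let i₀ : ptA str C ⟶ WS := Over.homMk (U'.isoSpec.inv ≫ m) (by
    change (_ ≫ _) ≫ w = Spec.map _ ≫ str
    rw [hγ]
    simp [γ, str])
  let a : (yon _).obj (ptA str C) ⟶ P := (yon _).map i₀
  have H : ChartHyp a q := by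
    refine ⟨IsAlgSpace.yon_obj _, (repWith_yon_map_iff (P := (@Etale : MorphismProperty Scheme.{u})) i₀).2
      (inferInstanceAs (Etale (U'.isoSpec.inv ≫ m))), ?_⟩
    rw [← Functor.map_comp]
    exact congrArg (yon _).map (Over.OverMorphism.ext (by
      change (U'.isoSpec.inv ≫ m) ≫ w = Spec.map _
      rw [hγ]; simp [γ]))
  let sT : (yon _).obj (ptA str (A ⧸ I)) ⟶ P := (yon _).map (Over.homMk s₀ (by
    change s₀ ≫ w = Spec.map _ ≫ str
    rw [hs₀]; exact (Category.comp_id _).symm))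
  -- the chart points
  let lr (r : t) : Spec (CommRingCat.of (Br r)) ⟶ Spec C := l r.1 ≫ Sigma.ι gs r ≫ U'.isoSpec.hom
  have hlr : ∀ r, lr r ≫ U'.isoSpec.inv ≫ m = l r.1 ≫ (V r.1).ι := fun r => by
    simp [lr, m, U']
  have hlγ : ∀ r, lr r ≫ γ = sl (g r.1) := fun r => by
    simp only [γ, reassoc_of% (hlr r)]
    exact hlw r.1
  let lA (r : t) : C →ₐ[A] Br r :=
    ⟨(Spec.preimage (lr r)).hom, fun x => by
      have := hlγ r
      rw [← hγ, ← Spec.map_preimage (lr r), ← Spec.map_comp] at this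
      exact congr($(Spec.map_injective this).hom x)⟩
  have hlA : ∀ r, Spec.map (CommRingCat.ofHom (lA r).toRingHom) = lr r := fun r => Spec.map_preimage _
  let Bt := ∀ r, Br r
  have : Module.FaithfullyFlat A Bt := Module.FaithfullyFlat.of_comap_surjective fun Q => by
    obtain ⟨z, hz, hQ⟩ := Set.mem_iUnion₂.1 (ht (Set.mem_univ (Q : S)))
    have : Q ∈ SetLike.coe (PrimeSpectrum.basicOpen (g z)) := hQ
    rw [← PrimeSpectrum.localization_away_comap_range (Localization.Away (g z)) (g z)] at this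
    obtain ⟨Q', hQ'⟩ := this
    exact ⟨PrimeSpectrum.comap (Pi.evalRingHom Br ⟨z, hz⟩) Q', hQ'⟩
  let lT : C →ₐ[A] Bt := AlgHom.pi lA
  let u₀ : C →ₐ[A] Bt ⧸ idealIn I Bt := (Ideal.Quotient.mkₐ A _).comp lT
  have hu : ptOf a u₀ = (yon _).map (hA str (baseQuot I Bt)) ≫ sT := by
    simp only [ptOf, a, sT, ← Functor.map_comp]
    refine congrArg (yon _).map (Over.OverMorphism.ext ?_)
    change Spec.map (CommRingCat.ofHom u₀.toRingHom) ≫ U'.isoSpec.inv ≫ m =
      Spec.map (CommRingCat.ofHom (baseQuot I Bt).toRingHom) ≫ s₀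
    let e := AlgEquiv.ofBijective _ (quotPi_bijective I Br)
    rw [← cancel_epi (Spec.map e.toRingEquiv.toCommRingCatIso.hom),
      ← cancel_epi (sigmaSpec (fun r => CommRingCat.of (Br r ⧸ idealIn I (Br r))))]
    refine Sigma.hom_ext _ _ fun r => ?_
    rw [ι_sigmaSpec_assoc, ι_sigmaSpec_assoc]
    simp only [← Spec.map_comp_assoc]
    have e1 : CommRingCat.ofHom u₀.toRingHom ≫ e.toRingEquiv.toCommRingCatIso.hom ≫
        CommRingCat.ofHom (Pi.evalRingHom (fun r => Br r ⧸ idealIn I (Br r)) r) =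
        CommRingCat.ofHom (lA r).toRingHom ≫ CommRingCat.ofHom (Ideal.Quotient.mk (idealIn I (Br r))) := by
      ext c; rfl
    have e2 : CommRingCat.ofHom (baseQuot I Bt).toRingHom ≫ e.toRingEquiv.toCommRingCatIso.hom ≫
        CommRingCat.ofHom (Pi.evalRingHom (fun r => Br r ⧸ idealIn I (Br r)) r) =
        CommRingCat.ofHom (baseQuot I (Br r)).toRingHom := by
      ext c
      rfl
    simp only [Category.assoc]
    rw [e1, e2, Spec.map_comp, Category.assoc, hlA, hlr]
    exact hls r.1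
  obtain ⟨L, hL, hLs⟩ := exists_section_of_lifts (A := A) I hI H sT Bt u₀ hu lT rfl
  obtain ⟨Lh, rfl⟩ := (yon _).map_surjective L
  refine ⟨Lh.left, ?_, ?_⟩
  · rw [← Functor.map_comp, ← (yon _).map_id] at hL
    exact congrArg CommaMorphism.left ((yon _).map_injective hL)
  · rw [← Functor.map_comp] at hLs
    exact congrArg CommaMorphism.left ((yon _).map_injective hLs)

end LiftGlueLib
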